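import Cfsg.Agent.Lib.Spider.NineCert.Data

/-! Checks of the edges, group 0. -/

set_option autoImplicit false
set_option maxRecDepth 20000
set_option Elab.async false

namespace Cfsg.Agent.Lib.Spider.NineCert

open Cfsg.Agent.Lib.CosetEnum

theorem edges_part0 : allFrom 0 4444 (edgeAt data 172418 28160 table vert edge) = true := by decide +kernel

theorem edges_part1 : allFrom 4444 4444 (edgeAt data 172418 28160 table vert edge) = true := by decide +kernel

theorem edges_part2 : allFrom 8888 4444 (edgeAt data 172418 28160 table vert edge) = true := by decide +kernel

theorem edges_part3 : allFrom 13332 4444 (edgeAt data 172418 28160 table vert edge) = true := by decide +kernel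

end Cfsg.Agent.Lib.Spider.NineCert
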