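import Cfsg.Agent.Lib.Spider.NineCert.Data

/-! Checks of the edges, group 1. -/

set_option autoImplicit false
set_option maxRecDepth 20000
set_option Elab.async false

namespace Cfsg.Agent.Lib.Spider.NineCert

open Cfsg.Agent.Lib.CosetEnum

theorem edges_part4 : allFrom 17776 4444 (edgeAt data 172418 28160 table vert edge) = true := by decide +kernel

theorem edges_part5 : allFrom 22220 4444 (edgeAt data 172418 28160 table vert edge) = true := by decide +kernel

theorem edges_part6 : allFrom 26664 1496 (edgeAt data 172418 28160 table vert edge) = true := by decide +kernel

end Cfsg.Agent.Lib.Spider.NineCert
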